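import Groth.Agent.L02.PicEtale.Basic
import Groth.Agent.L26.AbDual.Classes
import Groth.Agent.L08.Cube.Inverse
import Groth.Agent.L20.SchDesc.Refine
import Mathlib.AlgebraicGeometry.Sites.Fpqc
import Mathlib.CategoryTheory.Monoidal.Cartesian.CommGrp_
import Mathlib.CategoryTheory.Monoidal.Cartesian.Over

/-!
# The group law on a scheme representing the relative Picard functor
-/

set_option autoImplicit false
set_option linter.style.haveILetI false
set_option linter.unusedSectionVars false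

universe u

open CategoryTheory CategoryTheory.Limits AlgebraicGeometry Opposite MonoidalCategory CartesianMonoidalCategory

noncomputable section

namespace Groth.L02.PicGrpObj

open Groth.L02.PicEtale
open Groth.Agent.AbDualLib (oneCl cl_congr mulCl_comm mulCl_assoc oneCl_mul mul_oneCl pullCl_mulCl pullCl_oneCl isInvertibleCl_mulCl)

variable {X S : Scheme.{u}} {f : X ⟶ S} {P : Over S}
  {φ : ∀ T : Over S, PicF.Cl (PicF.XT f T) → (T ⟶ P)}

theorem exists_inverseCl {Y : Scheme.{u}} {c : PicF.Cl Y} (hc : PicF.IsInvertibleCl c) :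
    ∃ n, PicF.IsInvertibleCl n ∧ PicGrp.mulCl c n = oneCl Y := by
  obtain ⟨L, rfl, hL⟩ := hc
  obtain ⟨N, hN, ⟨e⟩⟩ := Groth.L08.Cube.exists_inverse hL
  exact ⟨PicF.cl N, isInvertibleCl_cl hN, cl_congr e⟩

theorem isInvertibleCl_one (Y : Scheme.{u}) : PicF.IsInvertibleCl (oneCl Y) :=
  isInvertibleCl_cl (Groth.L18.Ample.isInvertible_structureModule _)

theorem mem_fpqc {T : Scheme.{u}} {κ : Type u} (A : κ → Scheme.{u}) (π : ∀ k, A k ⟶ T) [∀ k, Etale (π k)]
    (hπ : ∀ t, ∃ k y, π k y = t) : Presieve.ofArrows A π ∈ Scheme.fpqcPrecoverage T :=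
  Scheme.fppfPrecoverage_le_fpqcPrecoverage _ ((Scheme.ofArrows_mem_precoverage_iff _).2
    ⟨fun t => let ⟨k, y, h⟩ := hπ t; ⟨k, y, h⟩, fun k => ⟨inferInstance, inferInstance⟩⟩)

/-- Morphisms to `P` agree when they do so near every point, up to etale neighbourhoods. -/
theorem hom_ext_local {T Z : Over S} {a b : T ⟶ Z}
    (h : ∀ t : T.left, ∃ (V : Over S) (v : V ⟶ T) (z : V.left), Etale v.left ∧ v.left z = t ∧ v ≫ a = v ≫ b) :
    a = b := by
  choose V v z hv hz he using h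
  haveI := hv
  exact Over.OverMorphism.ext (Groth.L20.SchDesc.eq_of_family (fun t => (v t).left)
    (mem_fpqc _ _ fun t => ⟨t, z t, hz t⟩) fun t => congrArg CommaMorphism.left (he t))

/-- Morphisms glue along etale coverings. -/
theorem exists_glue {T Z : Over S} {κ : Type u} (V : κ → Over S) (v : ∀ k, V k ⟶ T) [∀ k, Etale (v k).left]
    (hv : ∀ t, ∃ k y, (v k).left y = t) (g : ∀ k, V k ⟶ Z)
    (h : ∀ {W : Over S} (i j : κ) (p : W ⟶ V i) (q : W ⟶ V j), p ≫ v i = q ≫ v j → p ≫ g i = q ≫ g j) :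
    ∃ m : T ⟶ Z, ∀ k, v k ≫ m = g k := by
  have hπ := mem_fpqc (fun k => (V k).left) (fun k => (v k).left) hv
  obtain ⟨m, hm⟩ := Groth.L20.SchDesc.exists_desc_family _ hπ (fun k => (g k).left) fun {W} i j a b e => by
    have hb : b ≫ (V j).hom = a ≫ (V i).hom := by
      rw [← Over.w (v j), ← Over.w (v i), reassoc_of% e]
    exact congrArg CommaMorphism.left (h i j (Over.homMk a rfl : Over.mk (a ≫ (V i).hom) ⟶ V i)
      (Over.homMk b hb) (Over.OverMorphism.ext e))
  refine ⟨Over.homMk m (Groth.L20.SchDesc.eq_of_family _ hπ fun k => ?_), fun k => Over.OverMorphism.ext (hm k)⟩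
  rw [reassoc_of% (hm k), Over.w (g k), Over.w (v k)]

variable (hP : PicRel.IsRelPic f P φ)

include hP

/-- The point of a product depends only on the points of the factors. -/
theorem mul_congr_left {T : Over S} {c c' d : PicF.Cl (PicF.XT f T)} (hc : PicF.IsInvertibleCl c)
    (hc' : PicF.IsInvertibleCl c') (hd : PicF.IsInvertibleCl d) (h : φ T c = φ T c') :
    φ T (PicGrp.mulCl c d) = φ T (PicGrp.mulCl c' d) := by
  obtain ⟨ι, U, hU, hl⟩ := hP.locallyInjective T c c' hc hc' h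
  refine hom_ext_local fun t => ?_
  obtain ⟨i, y, hy⟩ := hU t
  refine ⟨_, PicRel.ovrHom T (U i), y, (U i).prop, hy, ?_⟩
  rw [← hP.natural _ _ _ _ (isInvertibleCl_mulCl hc hd), ← hP.natural _ _ _ _ (isInvertibleCl_mulCl hc' hd),
    pullCl_mulCl, pullCl_mulCl, hl i]

theorem mul_congr {T : Over S} {c c' d d' : PicF.Cl (PicF.XT f T)} (hc : PicF.IsInvertibleCl c)
    (hc' : PicF.IsInvertibleCl c') (hd : PicF.IsInvertibleCl d) (hd' : PicF.IsInvertibleCl d')
    (h : φ T c = φ T c') (h' : φ T d = φ T d') : φ T (PicGrp.mulCl c d) = φ T (PicGrp.mulCl c' d') := by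
  rw [mul_congr_left hP hc hc' hd h, mulCl_comm, mul_congr_left hP hd hd' hc' h', mulCl_comm]

theorem inv_congr {T : Over S} {c c' n n' : PicF.Cl (PicF.XT f T)} (hc : PicF.IsInvertibleCl c)
    (hc' : PicF.IsInvertibleCl c') (hn : PicF.IsInvertibleCl n) (hn' : PicF.IsInvertibleCl n')
    (h : φ T c = φ T c') (hcn : PicGrp.mulCl c n = oneCl _) (hcn' : PicGrp.mulCl c' n' = oneCl _) :
    φ T n = φ T n' :=
  calc φ T n = φ T (PicGrp.mulCl (PicGrp.mulCl c' n') n) := by rw [hcn', oneCl_mul]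
    _ = φ T (PicGrp.mulCl (PicGrp.mulCl c n') n) :=
      mul_congr_left hP (isInvertibleCl_mulCl hc' hn') (isInvertibleCl_mulCl hc hn') hn
        (mul_congr_left hP hc' hc hn' h.symm)
    _ = φ T n' := by rw [mulCl_assoc, mulCl_comm n', ← mulCl_assoc, hcn, oneCl_mul]

theorem natural_one {T T' : Over S} (g : T' ⟶ T) : g ≫ φ T (oneCl _) = φ T' (oneCl _) := by
  rw [← hP.natural _ _ g _ (isInvertibleCl_one _), pullCl_oneCl]

theorem exists_class_cl {T : Over S} (g : T ⟶ P) (t : T.left) :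
    ∃ (V : Over S) (v : V ⟶ T) (z : V.left) (c : PicF.Cl (PicF.XT f V)),
      Etale v.left ∧ v.left z = t ∧ PicF.IsInvertibleCl c ∧ φ V c = v ≫ g := by
  obtain ⟨V, v, z, L, hv, hz, hL, e⟩ := exists_class hP g t
  exact ⟨V, v, z, _, hv, hz, isInvertibleCl_cl hL, e⟩

theorem exists_class₂ {T : Over S} (a b : T ⟶ P) (t : T.left) :
    ∃ (V : Over S) (v : V ⟶ T) (z : V.left) (c d : PicF.Cl (PicF.XT f V)),
      Etale v.left ∧ v.left z = t ∧ PicF.IsInvertibleCl c ∧ PicF.IsInvertibleCl d ∧ φ V c = v ≫ a ∧ φ V d = v ≫ b := by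
  obtain ⟨V, v, z, c, hv, rfl, hc, hca⟩ := exists_class_cl hP a t
  obtain ⟨W, w, y, d, hw, rfl, hd, hdb⟩ := exists_class_cl hP (v ≫ b) z
  refine ⟨W, w ≫ v, y, PicF.pullCl (PicF.XTmap f w) c, d, ?_, rfl, PicLoc.isInvertibleCl_pullCl _ hc, hd, ?_, ?_⟩
  · rw [Over.comp_left]; infer_instance
  · rw [hP.natural _ _ w c hc, hca, Category.assoc]
  · rw [hdb, Category.assoc]

theorem exists_mul {T : Over S} (a b : T ⟶ P) : ∃ m : T ⟶ P, ∀ (V : Over S) (v : V ⟶ T) (c d : PicF.Cl (PicF.XT f V)),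
    PicF.IsInvertibleCl c → PicF.IsInvertibleCl d → φ V c = v ≫ a → φ V d = v ≫ b →
      v ≫ m = φ V (PicGrp.mulCl c d) := by
  choose W w z c d hw hz hc hd hca hdb using exists_class₂ hP a b
  haveI := hw
  obtain ⟨m, hm⟩ := exists_glue W w (fun t => ⟨t, z t, hz t⟩) (fun t => φ _ (PicGrp.mulCl (c t) (d t)))
    fun {V} i j p q e => by
      rw [← hP.natural _ _ p _ (isInvertibleCl_mulCl (hc i) (hd i)),
        ← hP.natural _ _ q _ (isInvertibleCl_mulCl (hc j) (hd j)), pullCl_mulCl, pullCl_mulCl]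
      refine mul_congr hP (PicLoc.isInvertibleCl_pullCl _ (hc i)) (PicLoc.isInvertibleCl_pullCl _ (hc j))
        (PicLoc.isInvertibleCl_pullCl _ (hd i)) (PicLoc.isInvertibleCl_pullCl _ (hd j)) ?_ ?_
      · rw [hP.natural _ _ _ _ (hc i), hP.natural _ _ _ _ (hc j), hca, hca, reassoc_of% e]
      · rw [hP.natural _ _ _ _ (hd i), hP.natural _ _ _ _ (hd j), hdb, hdb, reassoc_of% e]
  refine ⟨m, fun V v c' d' hc' hd' hca' hdb' => hom_ext_local fun x => ?_⟩
  obtain ⟨U, p, q, y, hp, hy, e⟩ : ∃ (U : Over S) (p : U ⟶ V) (q : U ⟶ W (v.left x)) (y : U.left),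
      Etale p.left ∧ p.left y = x ∧ p ≫ v = q ≫ w (v.left x) := by
    obtain ⟨y, hy, -⟩ := Scheme.Pullback.exists_preimage_pullback (f := v.left) (g := (w (v.left x)).left) x
      (z (v.left x)) (hz _).symm
    refine ⟨Over.mk (pullback.fst v.left (w (v.left x)).left ≫ V.hom), Over.homMk (pullback.fst _ _) rfl,
      Over.homMk (pullback.snd v.left (w (v.left x)).left) ?_, y, inferInstanceAs (Etale (pullback.fst _ _)), hy,
      Over.OverMorphism.ext pullback.condition⟩
    show _ = _ ≫ V.hom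
    rw [← Over.w v, ← Over.w (w (v.left x)), pullback.condition_assoc]
  refine ⟨U, p, y, hp, hy, ?_⟩
  rw [reassoc_of% e, hm, ← hP.natural _ _ q _ (isInvertibleCl_mulCl (hc _) (hd _)),
    ← hP.natural _ _ p _ (isInvertibleCl_mulCl hc' hd'), pullCl_mulCl, pullCl_mulCl]
  refine mul_congr hP (PicLoc.isInvertibleCl_pullCl _ (hc _)) (PicLoc.isInvertibleCl_pullCl _ hc')
    (PicLoc.isInvertibleCl_pullCl _ (hd _)) (PicLoc.isInvertibleCl_pullCl _ hd') ?_ ?_
  · rw [hP.natural _ _ _ _ (hc _), hP.natural _ _ _ _ hc', hca, hca', reassoc_of% e]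
  · rw [hP.natural _ _ _ _ (hd _), hP.natural _ _ _ _ hd', hdb, hdb', reassoc_of% e]

theorem exists_inv {T : Over S} (a : T ⟶ P) : ∃ m : T ⟶ P, ∀ (V : Over S) (v : V ⟶ T) (c n : PicF.Cl (PicF.XT f V)),
    PicF.IsInvertibleCl c → PicF.IsInvertibleCl n → φ V c = v ≫ a → PicGrp.mulCl c n = oneCl _ →
      v ≫ m = φ V n := by
  choose W w z c hw hz hc hca using exists_class_cl hP a
  choose n hn hcn using fun t => exists_inverseCl (hc t)
  haveI := hw
  obtain ⟨m, hm⟩ := exists_glue W w (fun t => ⟨t, z t, hz t⟩) (fun t => φ _ (n t))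
    fun {V} i j p q e => by
      rw [← hP.natural _ _ p _ (hn i), ← hP.natural _ _ q _ (hn j)]
      refine inv_congr hP (PicLoc.isInvertibleCl_pullCl (PicF.XTmap f p) (hc i))
        (PicLoc.isInvertibleCl_pullCl (PicF.XTmap f q) (hc j))
        (PicLoc.isInvertibleCl_pullCl (PicF.XTmap f p) (hn i)) (PicLoc.isInvertibleCl_pullCl (PicF.XTmap f q) (hn j)) ?_ ?_ ?_
      · rw [hP.natural _ _ _ _ (hc i), hP.natural _ _ _ _ (hc j), hca, hca, reassoc_of% e]
      · rw [← pullCl_mulCl, hcn, pullCl_oneCl]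
      · rw [← pullCl_mulCl, hcn, pullCl_oneCl]
  refine ⟨m, fun V v c' n' hc' hn' hca' hcn' => hom_ext_local fun x => ?_⟩
  obtain ⟨U, p, q, y, hp, hy, e⟩ : ∃ (U : Over S) (p : U ⟶ V) (q : U ⟶ W (v.left x)) (y : U.left),
      Etale p.left ∧ p.left y = x ∧ p ≫ v = q ≫ w (v.left x) := by
    obtain ⟨y, hy, -⟩ := Scheme.Pullback.exists_preimage_pullback (f := v.left) (g := (w (v.left x)).left) x
      (z (v.left x)) (hz _).symm
    refine ⟨Over.mk (pullback.fst v.left (w (v.left x)).left ≫ V.hom), Over.homMk (pullback.fst _ _) rfl,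
      Over.homMk (pullback.snd v.left (w (v.left x)).left) ?_, y, inferInstanceAs (Etale (pullback.fst _ _)), hy,
      Over.OverMorphism.ext pullback.condition⟩
    show _ = _ ≫ V.hom
    rw [← Over.w v, ← Over.w (w (v.left x)), pullback.condition_assoc]
  refine ⟨U, p, y, hp, hy, ?_⟩
  rw [reassoc_of% e, hm, ← hP.natural _ _ q _ (hn _), ← hP.natural _ _ p _ hn']
  refine inv_congr hP (PicLoc.isInvertibleCl_pullCl (PicF.XTmap f q) (hc _))
    (PicLoc.isInvertibleCl_pullCl (PicF.XTmap f p) hc') (PicLoc.isInvertibleCl_pullCl (PicF.XTmap f q) (hn _))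
    (PicLoc.isInvertibleCl_pullCl (PicF.XTmap f p) hn') ?_ ?_ ?_
  · rw [hP.natural _ _ _ _ (hc _), hP.natural _ _ _ _ hc', hca, hca', reassoc_of% e]
  · rw [← pullCl_mulCl, hcn, pullCl_oneCl]
  · rw [← pullCl_mulCl, hcn', pullCl_oneCl]

/-- The product of two points. -/
def mulHom {T : Over S} (a b : T ⟶ P) : T ⟶ P := (exists_mul hP a b).choose

/-- The inverse of a point. -/
def invHom {T : Over S} (a : T ⟶ P) : T ⟶ P := (exists_inv hP a).choose

theorem comp_mulHom_eq {T V : Over S} (v : V ⟶ T) {a b : T ⟶ P} {c d : PicF.Cl (PicF.XT f V)}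
    (hc : PicF.IsInvertibleCl c) (hd : PicF.IsInvertibleCl d) (ha : φ V c = v ≫ a) (hb : φ V d = v ≫ b) :
    v ≫ mulHom hP a b = φ V (PicGrp.mulCl c d) :=
  (exists_mul hP a b).choose_spec V v c d hc hd ha hb

theorem mulHom_φ {T : Over S} {c d : PicF.Cl (PicF.XT f T)} (hc : PicF.IsInvertibleCl c) (hd : PicF.IsInvertibleCl d) :
    mulHom hP (φ T c) (φ T d) = φ T (PicGrp.mulCl c d) := by
  simpa using comp_mulHom_eq hP (𝟙 T) hc hd (Category.id_comp _).symm (Category.id_comp _).symm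

theorem comp_mulHom {T T' : Over S} (g : T' ⟶ T) (a b : T ⟶ P) :
    g ≫ mulHom hP a b = mulHom hP (g ≫ a) (g ≫ b) := by
  refine hom_ext_local fun t => ?_
  obtain ⟨V, v, z, c, d, hv, hz, hc, hd, hca, hdb⟩ := exists_class₂ hP (g ≫ a) (g ≫ b) t
  refine ⟨V, v, z, hv, hz, ?_⟩
  rw [comp_mulHom_eq hP v hc hd hca hdb, ← Category.assoc]
  exact comp_mulHom_eq hP (v ≫ g) hc hd (by rw [hca, Category.assoc]) (by rw [hdb, Category.assoc])

theorem φ_mul_inv {T : Over S} {c n : PicF.Cl (PicF.XT f T)} (hc : PicF.IsInvertibleCl c) (hn : PicF.IsInvertibleCl n)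
    (h : PicGrp.mulCl c n = oneCl _) : invHom hP (φ T c) = φ T n := by
  simpa [invHom] using (exists_inv hP (φ T c)).choose_spec T (𝟙 T) c n hc hn (Category.id_comp _).symm h

theorem comp_invHom_eq {T V : Over S} (v : V ⟶ T) {a : T ⟶ P} {c n : PicF.Cl (PicF.XT f V)}
    (hc : PicF.IsInvertibleCl c) (hn : PicF.IsInvertibleCl n) (ha : φ V c = v ≫ a)
    (h : PicGrp.mulCl c n = oneCl _) : v ≫ invHom hP a = φ V n :=
  (exists_inv hP a).choose_spec V v c n hc hn ha h

theorem comp_invHom {T T' : Over S} (g : T' ⟶ T) (a : T ⟶ P) : g ≫ invHom hP a = invHom hP (g ≫ a) := by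
  refine hom_ext_local fun t => ?_
  obtain ⟨V, v, z, c, hv, hz, hc, hca⟩ := exists_class_cl hP (g ≫ a) t
  obtain ⟨n, hn, hcn⟩ := exists_inverseCl hc
  refine ⟨V, v, z, hv, hz, ?_⟩
  rw [comp_invHom_eq hP v hc hn hca hcn, ← Category.assoc]
  exact comp_invHom_eq hP (v ≫ g) hc hn (by rw [hca, Category.assoc]) hcn

/-- The group of points. -/
@[reducible] def commGroupHom (T : Over S) : CommGroup (T ⟶ P) :=
  letI : Mul (T ⟶ P) := ⟨mulHom hP⟩
  letI : One (T ⟶ P) := ⟨φ T (oneCl _)⟩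
  letI : Inv (T ⟶ P) := ⟨invHom hP⟩
  have hcomm : ∀ a b : T ⟶ P, mulHom hP a b = mulHom hP b a := fun a b => hom_ext_local fun t => by
    obtain ⟨V, v, z, c, d, hv, hz, hc, hd, hca, hdb⟩ := exists_class₂ hP a b t
    exact ⟨V, v, z, hv, hz, by rw [comp_mulHom_eq hP v hc hd hca hdb, comp_mulHom_eq hP v hd hc hdb hca, mulCl_comm]⟩
  have hone : ∀ a : T ⟶ P, mulHom hP (φ T (oneCl _)) a = a := fun a => hom_ext_local fun t => by
    obtain ⟨V, v, z, c, hv, hz, hc, hca⟩ := exists_class_cl hP a t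
    refine ⟨V, v, z, hv, hz, ?_⟩
    rw [comp_mulHom_eq hP v (isInvertibleCl_one _) hc (natural_one hP v).symm hca, oneCl_mul, hca]
  have hassoc : ∀ a b c : T ⟶ P, mulHom hP (mulHom hP a b) c = mulHom hP a (mulHom hP b c) := fun a b c =>
    hom_ext_local fun t => by
    obtain ⟨V, v, z, l, m, hv, rfl, hl, hm, hla, hmb⟩ := exists_class₂ hP a b t
    obtain ⟨W, w, y, n, hw, rfl, hn, hnc⟩ := exists_class_cl hP (v ≫ c) z
    refine ⟨W, w ≫ v, y, by rw [Over.comp_left]; infer_instance, rfl, ?_⟩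
    have e1 : φ W (PicF.pullCl (PicF.XTmap f w) l) = (w ≫ v) ≫ a := by
      rw [hP.natural _ _ _ _ hl, hla, Category.assoc]
    have e2 : φ W (PicF.pullCl (PicF.XTmap f w) m) = (w ≫ v) ≫ b := by
      rw [hP.natural _ _ _ _ hm, hmb, Category.assoc]
    have e3 : φ W n = (w ≫ v) ≫ c := by rw [hnc, Category.assoc]
    have il := PicLoc.isInvertibleCl_pullCl (PicF.XTmap f w) hl
    have im := PicLoc.isInvertibleCl_pullCl (PicF.XTmap f w) hm
    rw [comp_mulHom_eq hP _ (isInvertibleCl_mulCl il im) hn (comp_mulHom_eq hP _ il im e1 e2).symm e3,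
      comp_mulHom_eq hP _ il (isInvertibleCl_mulCl im hn) e1 (comp_mulHom_eq hP _ im hn e2 e3).symm, mulCl_assoc]
  have hinv : ∀ a : T ⟶ P, mulHom hP (invHom hP a) a = φ T (oneCl _) := fun a => hom_ext_local fun t => by
    obtain ⟨V, v, z, c, hv, hz, hc, hca⟩ := exists_class_cl hP a t
    obtain ⟨n, hn, hcn⟩ := exists_inverseCl hc
    refine ⟨V, v, z, hv, hz, ?_⟩
    rw [comp_mulHom_eq hP v hn hc (comp_invHom_eq hP v hc hn hca hcn).symm hca,
      mulCl_comm, hcn, natural_one hP v]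
  { mul := mulHom hP, one := φ T (oneCl _), inv := invHom hP, mul_assoc := hassoc, one_mul := hone,
    mul_one := fun a => (hcomm _ _).trans (hone a), inv_mul_cancel := hinv, mul_comm := hcomm }

/-- The group of `T`-points. -/
def pointsGroup (T : Over S) : CommGrpCat.{u} := @CommGrpCat.of (T ⟶ P) (commGroupHom hP T)

/-- Composition as a homomorphism of groups of points. -/
def pointsMap {T T' : Over S} (g : T' ⟶ T) : pointsGroup hP T ⟶ pointsGroup hP T' :=
  letI := commGroupHom hP T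
  letI := commGroupHom hP T'
  CommGrpCat.ofHom (MonoidHom.mk' (fun a : T ⟶ P => g ≫ a) fun a b => comp_mulHom hP g a b)

theorem pointsMap_apply {T T' : Over S} (g : T' ⟶ T) (a : T ⟶ P) : (pointsMap hP g).hom a = g ≫ a := rfl

/-- The functor of points as a functor to commutative groups. -/
def pointsFunctor : (Over S)ᵒᵖ ⥤ CommGrpCat.{u} where
  obj T := pointsGroup hP T.unop
  map g := pointsMap hP g.unop
  map_id T := CommGrpCat.hom_ext (MonoidHom.ext fun a => Category.id_comp (show T.unop ⟶ P from a))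
  map_comp {T₁ T₂ T₃} g h := CommGrpCat.hom_ext (MonoidHom.ext fun a =>
    Category.assoc h.unop g.unop (show T₁.unop ⟶ P from a))

/-- The functor of points is represented by `P`. -/
def pointsRepresentableBy : (pointsFunctor hP ⋙ forget CommGrpCat).RepresentableBy P where
  homEquiv := Equiv.refl _
  homEquiv_comp _ _ := rfl

/-- The group law on `P`. -/
@[reducible] def commGrpObj : CommGrpObj P := CommGrpObj.ofRepresentableBy P (pointsFunctor hP) (pointsRepresentableBy hP)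

/-- The group law on `P`. -/
@[reducible] def grpObj : GrpObj P := (commGrpObj hP).toGrpObj

theorem isCommMonObj : letI := grpObj hP; IsCommMonObj P := (commGrpObj hP).toIsCommMonObj

end Groth.L02.PicGrpObj
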